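import Groth.Agent.Lib.MTExt29.InGroup
import Groth.Agent.Lib.MTRigid29.QuotTorus
import Groth.Agent.Lib.Quot16.Local
import Groth.Agent.Lib.AbSchRigid22.Basic

/-!
# Central homomorphisms into the quotient by the reductive centre
-/

set_option autoImplicit false
set_option linter.style.haveILetI false
set_option linter.unusedSectionVars false
set_option backward.isDefEq.respectTransparency.types false
set_option maxSynthPendingDepth 3

universe u

open CategoryTheory Limits MonoidalCategory CartesianMonoidalCategory MonObj AlgebraicGeometry Opposite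

noncomputable section

namespace Groth.Agent.RedCtr21

open DiagGL MTRigid29

variable {S : Scheme.{u}}

/-- Base change keeps the fibres of a group with connected fibres connected. -/
theorem isConnected_fibre_bc {G : Over S} [GrpObj G] (h : ∀ s : S, _root_.IsConnected (G.hom.base ⁻¹' {s}))
    {S' : Scheme.{u}} (f : S' ⟶ S) (s' : S') : _root_.IsConnected ((Red.bc f G).hom.base ⁻¹' {s'}) := by
  haveI : GeometricallyConnected G.hom := AbSchRigid22.geometricallyConnected_of_grpObj G fun s =>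
    (G.hom.fiberHomeo s).connectedSpace_iff.2 (isConnected_iff_connectedSpace.1 (h s))
  haveI : GeometricallyConnected (Red.bc f G).hom :=
    inferInstanceAs (GeometricallyConnected (pullback.snd G.hom f))
  exact (Red.bc f G).hom.isConnected_preimage_singleton s'

/-- The kernel of a quotient map. -/
theorem isKernel_of_isQuotient {G Z Q : Over S} [GrpObj G] [GrpObj Z] [GrpObj Q] {z : Z ⟶ G} [IsMonHom z] [Mono z]
    {q : G ⟶ Q} [IsMonHom q] (hq : RedSub.IsQuotient z q) : AlgGrp.IsKernel z q := by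
  refine IsPullback.mk' ?_ (fun {X} a b h _ => (cancel_mono z).1 h) (fun {X} a b h => ?_)
  · rw [quotient_kills hq, Hom.one_def]
  · obtain ⟨w, hw⟩ := quotient_fibre hq (1 : X ⟶ G) a (by
      rw [MonObj.one_comp, h, toUnit_unique b (toUnit X), Hom.one_def])
    exact ⟨w, by rw [hw, _root_.one_mul], toUnit_unique _ _⟩

variable {G Z Q H : Over S} [GrpObj G] [GrpObj Z] [GrpObj Q] [GrpObj H]

set_option maxHeartbeats 1000000 in
/-- The preimage of a central homomorphism is a central group of multiplicative type. -/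
theorem exists_central_preimage {z : Z ⟶ G} [IsMonHom z] [Mono z] (hZ : SGA3x.IsMultTypeFT Z)
    (hzc : ∀ (X : Over S) (x : X ⟶ Z) (g : X ⟶ G), (x ≫ z) * g = g * (x ≫ z))
    {q : G ⟶ Q} [IsMonHom q] (hq : RedSub.IsQuotient z q) (hconn : ∀ s : S, _root_.IsConnected (G.hom.base ⁻¹' {s}))
    (v : H ⟶ Q) [IsMonHom v] (hH : SGA3x.IsMultTypeFT H)
    (hv : ∀ (X : Over S) (x : X ⟶ H) (g : X ⟶ Q), (x ≫ v) * g = g * (x ≫ v)) :
    ∃ (P : Over S) (_ : GrpObj P) (i' : P ⟶ G) (p : P ⟶ H), IsMonHom i' ∧ SGA3x.IsMultTypeFT P ∧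
      (∀ (X : Over S) (x : X ⟶ P) (g : X ⟶ G), (x ≫ i') * g = g * (x ≫ i')) ∧ i' ≫ q = p ≫ v ∧ Epi p := by
  let P : Over S := Over.mk (pullback.fst q.left v.left ≫ G.hom)
  let i' : P ⟶ G := Over.homMk (pullback.fst q.left v.left) rfl
  let p : P ⟶ H := Over.homMk (pullback.snd q.left v.left) (by
    show _ ≫ H.hom = pullback.fst q.left v.left ≫ G.hom
    rw [← Over.w v, ← pullback.condition_assoc, Over.w q])
  have hP : IsPullback i' p q v := IsPullback.of_map (Over.forget _) (Over.OverMorphism.ext pullback.condition)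
    (IsPullback.of_hasPullback q.left v.left)
  haveI : Mono (lift i' p) := ⟨fun a b h => hP.hom_ext
    (by simpa using congrArg (· ≫ fst G H) h) (by simpa using congrArg (· ≫ snd G H) h)⟩
  have hmulc : ∀ {X : Over S} (a b : X ⟶ G ⊗ H), a * b =
      lift ((a ≫ fst G H) * (b ≫ fst G H)) ((a ≫ snd G H) * (b ≫ snd G H)) := fun a b => by
    ext
    · rw [lift_fst, MonObj.mul_comp]
    · rw [lift_snd, MonObj.mul_comp]
  have hinvc : ∀ {X : Over S} (a : X ⟶ G ⊗ H), a⁻¹ = lift (a ≫ fst G H)⁻¹ (a ≫ snd G H)⁻¹ := fun a => by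
    ext
    · rw [lift_fst, GrpObj.inv_comp]
    · rw [lift_snd, GrpObj.inv_comp]
  obtain ⟨_, hlm⟩ := MTRigid29.exists_grpObj_of_subgroup (lift i' p)
    (fun X a b => by
      obtain ⟨w, h1, h2⟩ := hP.exists_lift ((a ≫ i') * (b ≫ i')) ((a ≫ p) * (b ≫ p)) (by
        simp only [MonObj.mul_comp, Category.assoc, hP.w])
      exact ⟨w, by rw [hmulc, comp_lift, comp_lift, comp_lift, h1, h2, lift_fst, lift_fst, lift_snd, lift_snd]⟩)
    (by
      obtain ⟨w, h1, h2⟩ := hP.exists_lift (1 : 𝟙_ (Over S) ⟶ G) 1 (by simp only [MonObj.one_comp])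
      refine ⟨w, ?_⟩
      ext
      · rw [comp_lift, lift_fst, h1, MonObj.one_comp]
      · rw [comp_lift, lift_snd, h2, MonObj.one_comp])
    (fun X a => by
      obtain ⟨w, h1, h2⟩ := hP.exists_lift (a ≫ i')⁻¹ (a ≫ p)⁻¹ (by
        simp only [GrpObj.inv_comp, Category.assoc, hP.w])
      exact ⟨w, by rw [hinvc, comp_lift, comp_lift, h1, h2, lift_fst, lift_snd]⟩)
  haveI := hlm
  haveI : IsMonHom i' := by
    rw [← lift_fst i' p]
    infer_instance
  haveI : IsMonHom p := by
    rw [← lift_snd i' p]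
    infer_instance
  -- the covering
  obtain ⟨hqs, hqf, hqp, hqH⟩ := id hq
  haveI : IsAffineHom q.left := by
    haveI : MorphismProperty.DescendsAlong @IsAffineHom.{u} (@Surjective ⊓ @Flat ⊓ @LocallyOfFinitePresentation) :=
      Quot16.descendsAlong_isAffineHom_fppf
    refine MorphismProperty.of_isPullback_of_descendsAlong (P := @IsAffineHom)
      (Q := @Surjective ⊓ @Flat ⊓ @LocallyOfFinitePresentation) ((hqH).map (Over.forget _)) ⟨⟨hqs, hqf⟩, hqp⟩ ?_
    exact MorphismProperty.pullback_fst (P := @IsAffineHom) G.hom Z.hom (MTRigid29.isAffineHom_of_isMultTypeFT hZ)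
  have hPl := hP.map (Over.forget _)
  haveI : IsAffineHom p.left := MorphismProperty.of_isPullback (P := @IsAffineHom) hPl ‹IsAffineHom q.left›
  haveI : Flat p.left := MorphismProperty.of_isPullback (P := @Flat) hPl hqf
  haveI : Surjective p.left := MorphismProperty.of_isPullback (P := @Surjective) hPl hqs
  haveI : Epi p.left := Flat.epi_of_flat_of_surjective _
  haveI : Epi p := Over.epi_of_epi_left _
  have hker := isKernel_of_isQuotient hq
  let m : Z ⟶ P := hP.lift z 1 (by rw [quotient_kills hq, MonObj.one_comp])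
  have hm1 : m ≫ i' = z := hP.lift_fst _ _ _
  have hm2 : m ≫ p = 1 := hP.lift_snd _ _ _
  haveI : IsMonHom m := TorsorSch25.isMonHom_of_points m fun X a b => hP.hom_ext
    (by simp only [MonObj.mul_comp, Category.assoc, hm1])
    (by rw [Category.assoc, hm2, MonObj.comp_one, MonObj.mul_comp, Category.assoc, Category.assoc, hm2,
      MonObj.comp_one, MonObj.comp_one, _root_.mul_one])
  have hmp : AlgGrp.IsKernel m p :=
    IsPullback.of_right (by rw [hm1, IsMonHom.one_hom]; exact hker) (hm2.trans Hom.one_def) hP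
  -- the commutator lands in the centre
  have hzero : ((fst G P * (snd G P ≫ i') * (fst G P)⁻¹ * (snd G P ≫ i')⁻¹) : G ⊗ P ⟶ G) ≫ q = 1 := by
    simp only [MonObj.mul_comp, GrpObj.inv_comp, Category.assoc, hP.w]
    have h := (hv _ (snd G P ≫ p) (fst G P ≫ q)).symm
    simp only [Category.assoc] at h
    rw [h]
    group
  let c : G ⊗ P ⟶ Z := hker.lift _ (toUnit _) (by rw [hzero, Hom.one_def])
  have hc : ∀ {X : Over S} (g : X ⟶ G) (x : X ⟶ P),
      (lift g x ≫ c) ≫ z = g * (x ≫ i') * g⁻¹ * (x ≫ i')⁻¹ := by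
    intro X g x
    rw [Category.assoc, show c ≫ z = _ from hker.lift_fst _ _ _]
    simp only [MonObj.comp_mul, GrpObj.comp_inv, lift_fst, lift_snd_assoc]
  have key : ∀ {X : Over S} (g : X ⟶ G) (x : X ⟶ P), lift g x ≫ c = 1 := fun g x =>
    MTExt29.pairing_desc_eq_one p m hmp c hH hZ
      (fun X g x y => (cancel_mono z).1 (by
        rw [MonObj.mul_comp, hc, hc, hc, MonObj.mul_comp]
        have h1 : Commute (g * (y ≫ i') * g⁻¹ * (y ≫ i')⁻¹) (x ≫ i')⁻¹ := by
          rw [← hc]; exact hzc _ _ _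
        calc g * ((x ≫ i') * (y ≫ i')) * g⁻¹ * ((x ≫ i') * (y ≫ i'))⁻¹
            = g * (x ≫ i') * g⁻¹ * ((g * (y ≫ i') * g⁻¹ * (y ≫ i')⁻¹) * (x ≫ i')⁻¹) := by group
          _ = g * (x ≫ i') * g⁻¹ * ((x ≫ i')⁻¹ * (g * (y ≫ i') * g⁻¹ * (y ≫ i')⁻¹)) := by rw [h1.eq]
          _ = _ := by group))
      (fun X x => (cancel_mono z).1 (by rw [hc, MonObj.one_comp]; group))
      (fun X g h => (cancel_mono z).1 (by
        rw [hc, MonObj.one_comp, Category.assoc, hm1, ← hzc _ h g]; group))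
      hconn g x
  have hcent : ∀ (X : Over S) (x : X ⟶ P) (g : X ⟶ G), (x ≫ i') * g = g * (x ≫ i') := by
    intro X x g
    have h := hc g x
    rw [key, MonObj.one_comp] at h
    exact (mul_inv_eq_iff_eq_mul.1 (mul_inv_eq_one.1 h.symm)).symm
  have hMT : SGA3x.IsMultTypeFT P := MTExt29.isMultTypeFT_of_comm_extension p m hmp
    (fun X a b => hP.hom_ext (by rw [MonObj.mul_comp, MonObj.mul_comp, hcent])
      (by rw [MonObj.mul_comp, MonObj.mul_comp, commute_of_isMultTypeFT hH])) hZ hH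
  exact ⟨P, inferInstance, i', p, inferInstance, hMT, hcent, hP.w, inferInstance⟩

set_option maxHeartbeats 1000000 in
/-- The quotient by the reductive centre has trivial reductive centre. -/
theorem quotient_trivial_centre (hconn : ∀ s : S, _root_.IsConnected (G.hom.base ⁻¹' {s})) {z : Z ⟶ G} [IsMonHom z]
    [Mono z] (hZ : SGA3x.IsMultTypeFT Z) (hzc : ∀ (X : Over S) (x : X ⟶ Z) (g : X ⟶ G), (x ≫ z) * g = g * (x ≫ z))
    (huniv : ∀ (S' : Scheme.{u}) (f : S' ⟶ S) (H : Over S') [GrpObj H] (v : H ⟶ Red.bc f G) [IsMonHom v],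
        SGA3x.IsMultTypeFT H →
        (∀ (X : Over S') (x : X ⟶ H) (g : X ⟶ Red.bc f G), (x ≫ v) * g = g * (x ≫ v)) →
        ∃ w : H ⟶ Red.bc f Z, w ≫ (Over.pullback f).map z = v)
    {q : G ⟶ Q} [IsMonHom q] (hq : RedSub.IsQuotient z q)
    (S' : Scheme.{u}) (f : S' ⟶ S) (H : Over S') [GrpObj H] (v : H ⟶ Red.bc f Q) [IsMonHom v]
    (hH : SGA3x.IsMultTypeFT H)
    (hv : ∀ (X : Over S') (x : X ⟶ H) (g : X ⟶ Red.bc f Q), (x ≫ v) * g = g * (x ≫ v)) : v = 1 := by
  haveI := isMonHom_map z f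
  haveI := isMonHom_map q f
  haveI : Mono ((Over.pullback f).map z) := Functor.map_mono _ _
  have hzc' : ∀ (X : Over S') (x : X ⟶ Red.bc f Z) (g : X ⟶ Red.bc f G),
      (x ≫ (Over.pullback f).map z) * g = g * (x ≫ (Over.pullback f).map z) := fun X x g => by
    refine fl_injective f G ?_
    rw [fl_mul, fl_mul, fl_comp_map, hzc]
  have hq' := isQuotient_bc hq f
  obtain ⟨P, _, i', p, hi', hPM, hPc, hw, hp⟩ := exists_central_preimage (isMultTypeFT_bc hZ f) hzc' hq'
    (isConnected_fibre_bc hconn f) v hH hv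
  haveI := hi'
  haveI := hp
  obtain ⟨w, hw'⟩ := huniv S' f P i' hPM hPc
  rw [← cancel_epi p, MonObj.comp_one, ← hw, ← hw', Category.assoc, quotient_kills hq', MonObj.comp_one]

end Groth.Agent.RedCtr21
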